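import Mathlib
import Cfsg.Agent.NC.Rns
import Cfsg.Agent.NF.CoreA
import Cfsg.Agent.NF.TwoB

/-! The block inside a bad local subgroup, with the non-solvability of the large blocks. -/

set_option autoImplicit false
set_option linter.unusedSectionVars false

namespace Cfsg.Agent.NF

open Cfsg Cfsg.Agent.GT Cfsg.Agent.Loc Cfsg.Agent.Loc.Mss Cfsg.Agent.Loc.PU Cfsg.Agent.Loc.Blk
  Subgroup
open scoped commutatorElement MatrixGroups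

variable {G : Type*} [Group G] [Finite G]

theorem loc3 (hc : ChP 2 (⊤ : Subgroup G)) {S M : Subgroup G} (hS : Syl 2 S ⊤) (hM : ¬ ⊤ ≤ M)
    (hz : 𝐂[ΩZ[2, S]] ≤ M) (hJ : 𝐍[thJ 2 S] ≤ M)
    (hI : ∀ X ≤ 𝐁[2, S], ΩZ[2, S] ≤ X → OFx.Inv (B := 𝐁[2, S]) Set.univ X → 𝐍[X] ≤ M) :
    ∃ U X, ¬ X ≤ M ∧ Blk3 S U X := by
  obtain ⟨P, F, _, _, L, A, ρ, φ, -, h, hL, hi⟩ := CG.exists_rd_inv (M := M) hS hc
    (inf_le_right.trans hz) (inf_le_right.trans hJ) hM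
  obtain ⟨L₂, M₂, P₂, l1, l2, hs, l3, l4⟩ := h.exists_pud
  have hC : 𝐂[ΩZ[2, 𝐎[2, P]]] ≤ M := (cent_anti h.oz_le).trans hz
  have hK : ¬ 𝐑[2, L₂] ≤ M := fun l => hL ((h.le_sup_cent (sup_le l2 h.nat.leS) hs).trans
    (sup_le (sup_le l ((abFam_le h.mem).trans ((le_cent_oz S).trans hz))) (inf_le_right.trans hC)))
  have hE : ¬ 𝐑[2, L₂] ≤ 𝐂[ΩZ[2, 𝐎[2, P]]] := fun l => hK (l.trans hC)
  have N := h.natW.2
  have JB := thJ_le_bB (p := 2) S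
  have uB := (le_sup_right.trans (le_thJ h.mem_abFam)).trans JB
  have nU := P₂.le_of_res (l2.trans N.norm) (norm_comm (h.B_le.trans h.norm_V) h.nB)
  have cB : ⁅ΩZ[2, 𝐎[2, P]], L⁆ ⊓ 𝐂[A] ≤ 𝐂[𝐁[2, S]] := fun x hx => mem_cent.2 fun b hb => by
    obtain ⟨a, ha, hab⟩ := h.split b hb
    rw [show b = a * (a⁻¹ * b) by group, mul_assoc, ← mem_cent.1 hab x hx.1, ← mul_assoc,
      mem_cent.1 hx.2 a ha, mul_assoc]
  have cc : 𝐎[2, L₂] ≤ 𝐂[⁅ΩZ[2, 𝐎[2, P]], L⁆] := by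
    have D := N.toNatD.mono (sup_le l2 N.leS) hs
    have a : ⁅ΩZ[2, 𝐎[2, P]], L⁆ ⊓ 𝐂[A] ≤ ⁅ΩZ[2, 𝐎[2, P]], L⁆ ⊓ 𝐂[𝐎[2, L₂]] :=
      le_inf inf_le_left (cB.trans (cent_anti P₂.core_le))
    rcases D.irred (N.le_X.trans a) inf_le_left (norm_inf D.norm (norm_cent
      ((sup_le (res_le L₂) (h.A_le.trans P₂.le)).trans (le_norm_core L₂)))) with e | e
    · exact absurd (a.trans e.le) N.not_X_le
    · exact cent_comm (e.ge.trans inf_le_right)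
  have hU := OFx.push P₂ (𝒜 := Set.univ) (le_inf ((OFx.oz_le_thJ S).trans JB)
    ((oz_le_cent S).trans (cent_anti (bB_le S))))
    (fun X a b c d => hK ((res_le L₂).trans (d.trans (hI X a b c))))
    (le_inf ((le_inf uB ((e2_oz _).mono h.W_le).le_cent).trans l3) (cent_comm cc)) nU
    fun a => hE fun g hg => h.ker g (l2 hg) ((N.ker_iff (l2 hg)).2 fun v hv => by
      rw [commutatorElement_def, OFx.conj_cent (a hg) hv, mul_inv_cancel]; exact one_mem _)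
  have r : RS P S 𝐎[2, P] L A L₂ M₂ ρ φ := ⟨h, P₂, l1, l2, hs, l3, l4, hE, hU, hi⟩
  by_cases hF : ∀ c : F, c = 0 ∨ c = 1
  · obtain ⟨l, hl, lo, lc⟩ : ∃ l ∈ L₂, (orderOf l).Coprime 2 ∧ l ∉ M := by
      by_contra! n
      exact hK (res_le_iff.2 n)
    obtain ⟨u, v, b⟩ := r.bk hF (mem_res hl lo) lo fun a => lc (hC a)
    exact ⟨_, zpowers l, fun a => lc (a (mem_zpowers l)), .inl ⟨u, v, l, b, rfl⟩⟩
  obtain ⟨k, t⟩ := r.exists_tor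
  refine ⟨_, _, hK, .inr ⟨⟨k, r.sk t fun a => hF fun c => or_iff_not_imp_left.2 fun c0 => ?_⟩, ?_⟩⟩
  · obtain ⟨n, hn⟩ := t.gen c c0
    rw [← hn, a, one_pow]
  · push Not at hF
    obtain ⟨c, c0, c1⟩ := hF
    exact r.ns c c0 c1

theorem Blk3.lift {G' : Type*} [Group G'] [Finite G'] {f : G →* G'} (hs : Function.Surjective f)
    (hk : (Nat.card f.ker).Coprime 2) {S Q : Subgroup G} (hS : IsPGroup 2 S) (hQ : Q ≤ S)
    {U' X' : Subgroup G'} (h : Blk3 (S.map f) U' X')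
    (h2 : ⊤ ≤ 𝐍[Q.map f]) : ∃ U X, Blk3 S U X ∧ X.map f = X' ∧ X ≤ 𝐍[Q] := by
  rcases h with ⟨u, v, l, h, rfl⟩ | ⟨⟨k, h⟩, ns⟩
  · obtain ⟨U, u, v, l, a, -, -, -, rfl, b⟩ := bk_lift hs hk hS hQ h h2
    exact ⟨U, zpowers l, .inl ⟨u, v, l, a, rfl⟩, f.map_zpowers l, zpowers_le.2 b⟩
  · obtain ⟨U, X, k, a, -, b, -, c⟩ := h.lift hs hk hS hQ h2
    exact ⟨U, X, .inr ⟨⟨k, a⟩, fun s => ns (b ▸ Group.isSolvable_of_surjective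
      (f.subgroupMap_surjective X))⟩, b, c⟩

theorem Blk3.map_inj {G' : Type*} [Group G'] [Finite G'] {f : G →* G'} (hf : Function.Injective f)
    {S U X : Subgroup G} (h : Blk3 S U X) : Blk3 (S.map f) (U.map f) (X.map f) := by
  rcases h with ⟨u, v, l, h, rfl⟩ | ⟨⟨k, h⟩, ns⟩
  · exact .inl ⟨_, _, _, thJ_map_of_injective f hf ▸ h.map_inj hf, f.map_zpowers l⟩
  · exact .inr ⟨⟨f k, h.map_inj hf⟩, fun s => ns (Group.isSolvable_of_surjective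
      (f := (X.equivMapOfInjective f hf).symm.toMonoidHom) (MulEquiv.surjective _))⟩

open LB in
theorem LB.blk_q3 {G' : Type*} [Group G'] [Finite G'] {f : G →* G'} (hs : Function.Surjective f)
    (hk : (Nat.card f.ker).Coprime 2) (hc : ChP 2 (⊤ : Subgroup G')) {S Q : Subgroup G} {M : Subgroup G'} (hS : Syl 2 S ⊤)
    (hQ : Q ≤ S) (nQ : ⊤ ≤ 𝐍[Q.map f]) (hM : ¬ ⊤ ≤ M)
    (good : ∀ X, Kd S X → ∀ g ∈ 𝐍[X], g ∈ 𝐍[Q] → f g ∈ M) :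
    ∃ U X, ∃ l ∈ X, l ∈ 𝐍[Q] ∧ f l ∉ M ∧ Blk3 S U X := by
  have i1 := OFx.inf_ker hk hS.pg
  have key : ∀ X, Kd S X → 𝐍[X.map f] ≤ M := fun X hX k h => by
    have pD : IsPGroup 2 (X ⊔ Q : Subgroup G) := hS.pg.to_le (sup_le hX.le hQ)
    obtain ⟨g, hg, rfl⟩ := OFx.lift_norm hs hk pD (k := k) (by
      rw [Subgroup.map_sup]; exact norm_sup (X := zpowers k) (zpowers_le.2 h) (le_top.trans nQ) (mem_zpowers k))
    exact good X hX g (norm_of_map hk pD le_sup_left hg h)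
      (norm_of_map hk pD le_sup_right hg (nQ (mem_top _)))
  have eB := OFx.bB_map' f i1
  have eZ := oz_map f i1
  have pB := hS.pg.to_le (bB_le (p := 2) S)
  obtain ⟨U', X', n, b⟩ := loc3 hc (S := S.map f) (map_top_of_surjective f hs ▸ hS.map f) hM
    (eZ ▸ (cent_le_norm _).trans (key _ (.inl rfl)))
    (by rw [thJ_map f i1]; exact key _ (.inr (.inl rfl))) fun X a b c => by
      obtain ⟨e, he⟩ := OFx.exists_equiv f (OFx.inf_ker hk pB) eB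
      obtain ⟨𝒜', h'⟩ := OFx.exists_inv e Set.univ
      rw [← th_map_comap_inf f (a.trans eB.ge)]
      refine key _ (.inr (.inr ⟨inf_le_right, le_inf (map_le_iff_le_comap.1 (eZ.le.trans b))
        ((OFx.oz_le_thJ S).trans (thJ_le_bB S)), h' _ X (fun x => ?_) fun σ _ => c σ (Set.mem_univ _)⟩))
      rw [he]
      exact and_iff_left x.2
  obtain ⟨U, X, b', rfl, xn⟩ := b.lift hs hk hS.pg hQ nQ
  obtain ⟨_, ⟨l, hl, rfl⟩, hl'⟩ := SetLike.not_le_iff_exists.1 n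
  exact ⟨U, X, l, hl, xn hl, hl', b'⟩

theorem LD.blk3 {C S M : Subgroup G} (h : LD 2 C S M) (hM : S ≤ M) :
    ∃ U X Q : Subgroup G, ∃ l ∈ X, Q ≤ S ∧ l ∈ 𝐍[Q] ∧ (∀ c ∈ 𝐂[Q], l * c ∉ M) ∧ Blk3 S U X := by
  obtain ⟨H, eH⟩ : ∃ H, H = 𝐍[C] := ⟨_, rfl⟩
  have hS : Syl 2 S H := eH ▸ h.syl
  have hf := H.subtype_injective
  obtain ⟨f, ef⟩ : ∃ f, f = QuotientGroup.mk' (pPrimeCore 2 H) := ⟨_, rfl⟩
  have hs : Function.Surjective f := ef ▸ QuotientGroup.mk'_surjective _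
  have kf : f.ker = pPrimeCore 2 H := ef ▸ QuotientGroup.ker_mk' _
  have hk : (Nat.card f.ker).Coprime 2 := by rw [kf]; exact coprime_card_pPrimeCore 2
  have cH : C ≤ H := eH ▸ le_normalizer
  have ccH : 𝐂[C] ≤ H := eH ▸ cent_le_norm C
  have pC : IsPGroup 2 (C.subgroupOf H) := h.pg.comap_subtype
  have nC : (⊤ : Subgroup H) ≤ 𝐍[C.subgroupOf H] := by
    rw [norm_subgroupOf cH, ← eH, subgroupOf_self]
  have cO : (C.subgroupOf H).map f ≤ 𝐎[2, ⊤] :=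
    le_pCoreOf le_top (map_top_of_surjective _ hs ▸ map_norm_le _ nC) (pC.map _)
  have hc : ChP 2 (⊤ : Subgroup (H ⧸ pPrimeCore 2 H)) := by
    refine chP_top.2 (centralizer_pCore_le_of_isPSolvable_centralizer ?_ pPrimeCore_quotient_pPrimeCore)
    have s1 : IsPSolvable 2 𝐂[C.subgroupOf H] := by
      rw [cent_subgroupOf cH]
      exact (isPSolvable_of_isSolvable h.sol).of_mulEquiv (subgroupOfEquivOfLe ccH).symm
    refine (s1.map f).of_le ((cent_anti ?_).trans (OFx.cent_map_le hs hk pC))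
    rwa [← pCoreOf_top]
  have hS' : Syl 2 (S.subgroupOf H) ⊤ := subgroupOf_self H ▸ hS.subgroupOf le_rfl
  have eS := map_subgroupOf_eq_of_le hS.le
  have oS : 𝐎[2, ⊤] ≤ (S.subgroupOf H).map f :=
    Syl.core_le (map_top_of_surjective f hs ▸ hS'.map f)
  obtain ⟨Q, eQ⟩ : ∃ Q, Q = 𝐎[2, ⊤].comap f ⊓ S.subgroupOf H := ⟨_, rfl⟩
  have qf : Q.map f = 𝐎[2, ⊤] := eQ ▸ th_map_comap_inf f oS
  have qS : Q ≤ S.subgroupOf H := eQ ▸ inf_le_right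
  have qS' : Q.map H.subtype ≤ S := eS ▸ map_mono qS
  have cS : C ≤ S := hS.le_of_norm h.pg cH (hS.le.trans eH.le)
  have cQ : C ≤ Q.map H.subtype := fun x hx =>
    ⟨⟨x, cH hx⟩, eQ ▸ ⟨cO (mem_map_of_mem f hx), cS hx⟩, rfl⟩
  have star : ∀ g : H, ∀ c ∈ 𝐂[Q.map H.subtype], (g : G) * c ∈ M → f g ∈ (M.subgroupOf H).map f := by
    intro g c h1 h2
    have h3 : c ∈ H := ccH (cent_anti cQ h1)
    have h4 : (⟨c, h3⟩ : H) ∈ 𝐂[Q] := mem_cent.2 fun y hy =>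
      Subtype.ext (mem_cent.1 h1 _ (mem_map_of_mem H.subtype hy))
    have h5 : f ⟨c, h3⟩ ∈ (M.subgroupOf H).map f :=
      map_mono (comap_mono hM) (oS (hc ⟨mem_top _, qf ▸ map_cent_le f le_rfl (mem_map_of_mem f h4)⟩))
    have h6 : f (g * ⟨c, h3⟩) ∈ (M.subgroupOf H).map f := mem_map_of_mem f h2
    rw [map_mul] at h6
    exact (Subgroup.mul_mem_cancel_right _ h5).1 h6
  have hM' : ¬ ⊤ ≤ (M.subgroupOf H).map f := fun ht => by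
    obtain ⟨g, hg, hb⟩ := h.bad
    obtain ⟨m, hm, e⟩ := ht (mem_top (f ⟨g, eH ▸ hg⟩))
    have h1 : (⟨g, eH ▸ hg⟩ : H)⁻¹ * m ∈ f.ker := by
      rw [MonoidHom.mem_ker, map_mul, map_inv, e, inv_mul_cancel]
    have h2 : f.ker ≤ 𝐂[C.subgroupOf H] :=
      le_centralizer_of_le_normalizer (le_top.trans nC) th_le_norm
        (by rw [inf_comm]; exact OFx.inf_ker hk pC)
    have h3 := h2 h1
    rw [cent_subgroupOf cH] at h3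
    exact hb _ h3 (by simpa using mem_subgroupOf.1 hm)
  obtain ⟨U, X, l, hl, ln, lM, b⟩ := LB.blk_q3 hs hk hc hS' qS (qf ▸ le_norm_core ⊤) hM'
    fun X hX g g1 g2 => by
      have k := eS ▸ hX.map hf
      obtain ⟨c, c1, c2⟩ := h.good _ _ k.oz k.ch qS' g (map_norm_le _ le_rfl (mem_map_of_mem H.subtype g1))
        (map_norm_le _ le_rfl (mem_map_of_mem H.subtype g2))
      exact star g c c1 c2
  exact ⟨U.map H.subtype, X.map H.subtype, Q.map H.subtype, l, mem_map_of_mem H.subtype hl, qS',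
    map_norm_le _ le_rfl (mem_map_of_mem H.subtype ln), fun c c1 c2 => lM (star l c c1 c2),
    eS ▸ b.map_inj hf⟩

variable {𝒲 : Subgroup G → Subgroup G}

theorem FW.gl3 (F : FW 2 𝒲) {S T : Subgroup G} (m : MX 2 𝒲 S) (hT : Syl 2 T ⊤) (hS : S ≤ T)
    (y : YF T (𝒲 T)) : ΩZ[2, T] ≤ ΩZ[2, S] ∧ ∃ U X, Blk3 S U X ∧ Gl T (𝒲 T) (thJ 2 S) U X ∧
      ∀ C R : Subgroup G, U ⊔ ΩZ[2, T] ≤ C → C ≤ thJ 2 S ⊓ 𝐂[U] → IsPGroup 2 R → thJ 2 S ≤ R →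
        R ≤ 𝐍[C] → R ∈ BS 2 𝒲 := by
  obtain ⟨-, C, hC⟩ := F.ld m
  obtain ⟨hz, L⟩ := hC T hT hS
  have tM : T ≤ 𝐍[𝒲 T] := le_normalizer.trans (FwH.nT F T)
  obtain ⟨U, X, Q, l, hl, qS, lQ, hb, B⟩ := L.blk3 (hS.trans tM)
  obtain ⟨k, gk⟩ := B.blk2.gk
  have jT := (thJ_le 2 S).trans hS
  have bad : ∀ c ∈ 𝐂[ΩZ[2, T]], l * c ∉ 𝐍[𝒲 T] := fun c hc h => by
    obtain ⟨c', h1, h2⟩ := F.fc hT (qS.trans hS) h (inv_mem hc) (by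
      rw [mul_inv_cancel_right, cj_of_norm lQ]; exact qS.trans (hS.trans tM))
    exact hb c' h1 (by rwa [mul_inv_cancel_right] at h2)
  have bs : ∀ C R : Subgroup G, U ⊔ ΩZ[2, T] ≤ C → C ≤ thJ 2 S ⊓ 𝐂[U] → IsPGroup 2 R →
      thJ 2 S ≤ R → R ≤ 𝐍[C] → R ∈ BS 2 𝒲 := fun C R a b c d e =>
    F.bs m hT jT (b.trans inf_le_left)
      (FwH.sol_mono (F.sol T hT) (cent_anti (le_sup_right.trans a)))
      ⟨l, gk.toGB.norm (le_sup_left.trans a) b hl,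
        fun c hc => bad c (cent_anti (le_sup_right.trans a) hc)⟩ c d e
  exact ⟨hz, U, X, B, ⟨hT.pg, y.yT, tM, y.e2, y.zY, y.ff, jT, hz.trans (OFx.oz_le_thJ S), gk.toGB,
    ⟨l, hl, bad⟩, fun C R a b c d e => m.m1 R (bs C R a b c d e) d, F.nj m hT jT⟩, bs⟩

theorem FW.split3 (F : FW 2 𝒲) (y : ∀ T, Syl 2 T ⊤ → YF T (𝒲 T)) (h : (BS 2 𝒲).Nonempty) :
    ∃ S T U X, MX 2 𝒲 S ∧ S ≤ T ∧ Syl 2 T ⊤ ∧ Blk3 S U X ∧ Gl T (𝒲 T) (thJ 2 S) U X ∧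
      (thJ 2 T = thJ 2 S ∨ (thJ 2 (T ⊓ 𝐍[thJ 2 S]) ≠ thJ 2 S ∧
        ∃ u v l, OFx.Bk (thJ 2 S) U u v l ∧ X = zpowers l)) := by
  obtain ⟨S₀, m₀⟩ := exists_mx h
  obtain ⟨T₀, t0, s0, r0⟩ := FwH.exists_ext (FwH.bs_pg m₀.mem) (le_normalizer_thJ 2 S₀)
  have j0 : thJ 2 S₀ ≤ T₀ ⊓ 𝐍[thJ 2 S₀] := le_inf ((thJ_le 2 S₀).trans s0) le_normalizer
  by_cases hN : thJ 2 (T₀ ⊓ 𝐍[thJ 2 S₀]) = thJ 2 S₀
  · have e : T₀ ≤ T₀ ⊓ 𝐍[thJ 2 S₀] := OFx.eq_of_norm_le' t0.pg inf_le_left (inf_le_inf_left _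
      (by nth_rewrite 2 [← hN]; exact normalizer_le_normalizer_thJ 2 _))
    rw [le_antisymm inf_le_left e] at hN
    obtain ⟨-, U, X, B, g, -⟩ := F.gl3 m₀ t0 s0 (y _ t0)
    exact ⟨S₀, T₀, U, X, m₀, s0, t0, B, g, .inl hN⟩
  set R₀ := T₀ ⊓ 𝐍[thJ 2 S₀]
  obtain ⟨E, mE, hE⟩ : ∃ E ∈ abFam 2 R₀, ¬ E ≤ thJ 2 S₀ := by
    by_contra! n
    exact hN (thJ_eq_of_le ((thJ_le_iff.2 n).trans (thJ_le 2 S₀))
      (le_inf s0 (le_normalizer_thJ 2 S₀))).symm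
  obtain ⟨E', ⟨e1, e2⟩, e3⟩ := Set.Finite.exists_maximal
    (Set.toFinite {E' | E' ≤ E ∧ thJ 2 S₀ ⊔ E' ∈ BS 2 𝒲})
    ⟨⊥, bot_le, FwH.bs_mono m₀.mem (sup_le (thJ_le 2 S₀) bot_le)⟩
  obtain ⟨S, s1, m, eJ⟩ := m₀.ext e2 le_sup_left
  obtain ⟨T, t, s, r⟩ := FwH.exists_ext (FwH.bs_pg m.mem) (le_normalizer_thJ 2 S)
  obtain ⟨hz, U, X, B, g, bs⟩ := F.gl3 m t s (y _ t)
  rw [← eJ] at r0 hN hE j0 e3
  obtain ⟨n, hn, en⟩ := r0.conj_eq r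
  have eT : thJ 2 (T ⊓ 𝐍[thJ 2 S]) = cj(n, thJ 2 R₀) := by rw [← en, cj_thJ]
  refine ⟨S, T, U, X, m, s, t, B, g, .inr ⟨fun e => hN ?_, B.resolve_right fun ⟨⟨k, sk⟩, _⟩ => ?_⟩⟩
  · rw [← cj_inv_cj (thJ 2 R₀) n, ← eT, e, cj_of_norm (inv_mem hn)]
  have eR := abFam_le mE
  have jE : thJ 2 S ⊔ E ≤ R₀ := sup_le j0 eR
  obtain ⟨y1, y2⟩ := g.yy
  have nc : thJ 2 S ≤ 𝐍[thJ 2 S ⊓ 𝐂[U]] := norm_inf le_normalizer (norm_cent g.gb.nJ)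
  refine g.big sk hz (eR.trans r0.le) (r0.pg.to_le jE) (mem_abFam_of_le mE le_sup_right jE) hE ?_
    fun a => ?_
  · have := g.ff (T ⊓ 𝐍[thJ 2 S]) (le_inf g.yT ((y1.trans (oz_le _)).trans le_normalizer))
      inf_le_left
    rw [eT, cj_le_iff_le_inv, cj_of_norm (norm_cent le_rfl (inv_mem (y2 hn)))] at this
    exact (le_thJ mE).trans this
  · have b := le_sup_right.trans s1
    refine (e3 ⟨inf_le_left, bs _ _ (sup_le (le_inf g.gb.le g.gb.e2.le_cent) (le_inf g.oz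
      (cent_comm ((g.gb.le.trans g.le).trans (le_cent_oz T))))) le_rfl
      (r0.pg.to_le ((sup_le_sup_left inf_le_left _).trans jE)) le_sup_left
      (sup_le nc inf_le_right)⟩ (le_inf e1 ((le_inf e1 b).trans a))).trans b

open OFx in
theorem bk_td' {T J U : Subgroup G} {u v l : G} (pT : IsPGroup 2 T)
    (hJ : J ≤ T) (hZ : ΩZ[2, T] ≤ J) (m : WC J U ΩZ[2, T]) (h : OFx.Bk J U u v l)
    {t : G} (ht : t ∈ T ⊓ 𝐍[J]) (hn : ¬ cj(t, U) ≤ 𝐂[U]) : ∃ w, OFx.TD T U u v w ∧ ∃ w' : G, w' * w' = 1 ∧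
      w' * u * w'⁻¹ ≠ u ∧ ∀ c ∈ T ⊓ 𝐂[U], w' * c * w'⁻¹ * c⁻¹ ∈ U := by
  set Z := ΩZ[2, T]
  have pJ : IsPGroup 2 J := pT.to_le hJ
  have zT : T ≤ 𝐂[Z] := le_cent_oz T
  have z1 : Z ≤ J ⊓ 𝐂[J] := le_inf hZ (cent_comm (hJ.trans zT))
  have z2 : Z ≤ J ⊓ 𝐂[U] := z1.trans (inf_le_inf_left _ (cent_anti h.le))
  have jN : J ≤ T ⊓ 𝐍[J] := le_inf hJ le_normalizer
  have h1 := h.cj ht.2
  have m1 : WC J cj(t, U) Z := m.cj ht.2 (cent_le_norm _ (zT ht.1))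
  obtain ⟨tu, wv⟩ := h.same_u h1 hn
  rw [tu] at h1
  set w := t * v * t⁻¹
  have wJ : w ∈ J := h1.le h1.v_mem
  have wc : w ∉ 𝐂[U] := fun l => hn (h1.le_of (h.le_cent h.u_mem) l)
  have EW : ∀ e ∈ 𝐍[J], e ∈ 𝐂[U] → e * w * e⁻¹ = w ∨ e * w * e⁻¹ = u * w := fun e a b => by
    have h2 := h1.cj a
    have eu := conj_cent b h.u_mem
    rw [eu] at h2
    have := bk_uq pJ m1 z1 h1 h2 (h.opp_comm h1 h2 wc fun l => wc (by
      simpa [mul_assoc] using mul_mem (mul_mem (inv_mem b) l) b))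
    exact h1.other this h2.v1 h2.ne
  have c0 : U ⊔ Z ≤ J ⊓ 𝐂[U] := sup_le (le_inf h.le h.le_cent) z2
  have n0 : T ⊓ 𝐍[U] ≤ 𝐍[U ⊔ Z] := norm_sup inf_le_right (norm_of_cent (inf_le_left.trans zT))
  have j0 : J ≤ T ⊓ 𝐍[U] := le_inf hJ h.nJ
  have m0 : W1 J (U ⊔ Z) := fun R => m _ R le_rfl c0
  have nR := m0.le_norm (pT.to_le inf_le_left) j0 n0
  have W : ∃ w' : G, w' * w' = 1 ∧
      w' * u * w'⁻¹ ≠ u ∧ ∀ c ∈ T ⊓ 𝐂[U], w' * c * w'⁻¹ * c⁻¹ ∈ U := by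
    have s0 : T ⊓ 𝐂[U] ≤ 𝐂[U ⊔ Z] := le_cent_sup inf_le_right (inf_le_left.trans zT)
    obtain ⟨S, s1, s2⟩ := Syl.exists_ge (pT.to_le (sup_le inf_le_left hJ : T ⊓ 𝐂[U] ⊔ J ≤ T))
      (sup_le_sup_right s0 J)
    have s3 := s2.le.trans (sup_le (cent_le_norm _) (j0.trans n0))
    have s4 := le_normalizer.trans (m0.le_norm s2.pg (le_sup_right.trans s1) s3)
    have s5 := s2.inf le_sup_left (norm_cent s3)
    obtain ⟨k, hk, n, hn', rfl⟩ := s5.frattini (norm_cent le_rfl (h.norm_l le_sup_left c0))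
    have kU : k ∈ 𝐂[U] := cent_anti le_sup_left hk
    have nU : n ∈ 𝐍[U] := (mul_mem_cancel_left (cent_le_norm U kU)).1 h.ln
    refine ⟨n * w * n⁻¹, ?_, fun l => h.a_f4.v1 ?_, fun c hc => ?_⟩
    · rw [show n * w * n⁻¹ * (n * w * n⁻¹) = n * (w * w) * n⁻¹ by group, h1.vv]
      group
    · have := h.conj_w_u wJ wc
      rw [show k * n * w * (k * n)⁻¹ * u * (k * n * w * (k * n)⁻¹)⁻¹ =
        k * (n * w * n⁻¹ * (k⁻¹ * u * k⁻¹⁻¹) * (n * w * n⁻¹)⁻¹) * k⁻¹ by group,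
        conj_cent (inv_mem kU) h.u_mem, l, conj_cent kU h.u_mem] at this
      simpa using this.symm
    · have c1 := conj_mem_of_norm' hn' (⟨s1 (mem_sup_left hc), s0 hc⟩ : c ∈ S ⊓ 𝐂[U ⊔ Z])
      have c2 : n⁻¹ * c * n ∈ 𝐂[U] := cent_anti le_sup_left c1.2
      rw [show n * w * n⁻¹ * c * (n * w * n⁻¹)⁻¹ * c⁻¹ =
        n * (w * (n⁻¹ * c * n * w * (n⁻¹ * c * n)⁻¹)⁻¹) * n⁻¹ by group]
      refine conj_mem_of_norm nU ?_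
      rcases EW _ (s4 c1.1) c2 with l | l <;> rw [l]
      · simp
      · simpa using h.u_mem
  refine ⟨w, ⟨h.toF4, pT, h.le.trans hJ, wv,
    ⟨t, ht.1, comm_of_conj_eq tu, rfl⟩, fun s a b => comm_of_conj_eq ?_, fun c a b e => ?_,
    fun e a b c => ?_, fun x _ b c d => ?_⟩, W⟩
  · exact h.eq_u (conj_mem_of_norm b h.u_mem)
      (conj_mem_of_norm (norm_cent le_rfl (nR (le_normalizer ⟨a, b⟩))) h.uc)
      fun e => h.u1 (by simpa using e)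
  · have cU : c ∈ 𝐂[U] := h.mem_cent_iff.2 ⟨by rw [← e, mul_assoc], b⟩
    obtain ⟨w', -, w2, w3⟩ := W
    exact h.no_sq cU (w3 c ⟨a, cU⟩) w2 e
  · have eU := h.mem_cent_iff.2 ⟨b, c⟩
    exact EW e (nR (le_normalizer ⟨a, cent_le_norm U eU⟩)) eU
  · have h2 := h.cj (nR c)
    rw [conj_eq_of_comm b] at h2
    exact bk_uq pJ m z1 h h2 (h2.le_of (h.le_cent h.u_mem) (h.mem_cent_iff.2 ⟨h2.uv.symm, d⟩))

end Cfsg.Agent.NF
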