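import Mathlib
import Cfsg.Agent.NF.MA
import Cfsg.Agent.NC.Defs
import Cfsg.Agent.Loc.JCBasic

/-! Two involutions of `T4` with cyclic commutator on `O₃(H)` (PLAN: MF). -/

set_option autoImplicit false
set_option linter.unusedSectionVars false

namespace Cfsg.Agent.NC

open Cfsg Cfsg.Agent.GT Cfsg.Agent.Loc Cfsg.Agent.Loc.Mss Cfsg.Agent.Loc.PU Cfsg.Agent.Loc.Blk
  Subgroup Cfsg.Agent.NF
open scoped commutatorElement

variable {G : Type*} [Group G] [Finite G]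

namespace MF

theorem zp3 {x y : G} (hx : x ^ 3 = 1) (hy : y ∈ zpowers x) : y = 1 ∨ y = x ∨ y = x⁻¹ := by
  obtain ⟨k, rfl⟩ := mem_zpowers_iff.1 hy
  have h : x ^ (3 : ℤ) = 1 := by exact_mod_cast hx
  rw [← Int.mul_ediv_add_emod k 3, zpow_add, zpow_mul, h, one_zpow, one_mul]
  obtain h0 | h0 | h0 : k % 3 = 0 ∨ k % 3 = 1 ∨ k % 3 = 2 := by omega
  · simp [h0]
  · simp [h0]
  · exact Or.inr (Or.inr (eq_inv_of_mul_eq_one_left (by rw [h0, ← h]; group)))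

theorem cz {s x : G} : x ∈ 𝐂[zpowers s] ↔ s * x = x * s :=
  ⟨fun h => mem_cent.1 h s (mem_zpowers s), fun h => mem_cent.2 fun a ha => by
    obtain ⟨k, rfl⟩ := mem_zpowers_iff.1 ha
    exact (Commute.zpow_left h k).eq⟩

theorem cjz (g x : G) : cj(g, zpowers x) = zpowers (g * x * g⁻¹) := MonoidHom.map_zpowers _ _

theorem nz {g x : G} (h : g * x * g⁻¹ = x⁻¹) : g ∈ 𝐍[zpowers x] := cj_eq_iff.1 (by rw [cjz, h, zpowers_inv])

theorem nz' {g x : G} (h : x * g = g * x) : g ∈ 𝐍[zpowers x] := cent_le_norm _ (cz.2 h)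

/-- `t` inverts the central element `x` of `P` and centralizes `P / ⟨x⟩`. -/
structure Tr (H V : Subgroup G) (t x : G) : Prop where
  mem : t ∈ T4 H V
  xP : x ∈ 𝐎[3, H]
  cen : x ∈ 𝐂[𝐎[3, H]]
  ord : orderOf x = 3
  inv : t * x * t⁻¹ = x⁻¹
  act : ∀ g ∈ 𝐎[3, H], g⁻¹ * (t * g * t⁻¹) ∈ zpowers x
  card : Nat.card ↥⁅V, zpowers x⁆ = 16
  ct : V ⊓ 𝐂[zpowers x] ≤ 𝐂[zpowers t]

variable {𝒩 : Subgroup (MulAut G)} {H V : Subgroup G} {s t x y : G}

theorem Tr.x3 (a : Tr H V t x) : x ^ 3 = 1 := by rw [← a.ord, pow_orderOf_eq_one]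

theorem Tr.xH (a : Tr H V t x) : x ∈ H := pCoreOf_le H a.xP

theorem Tr.neg (a : Tr H V t x) : Tr H V t x⁻¹ :=
  ⟨a.mem, inv_mem a.xP, inv_mem a.cen, by rw [orderOf_inv, a.ord], by rw [← conj_inv, a.inv],
    by simpa using a.act, by simpa using a.card, by simpa using a.ct⟩

theorem exists_tr (h : M3 𝒩 H V)
    (cy : ∀ t ∈ T4 H V, ∀ x ∈ 𝐎[3, H], ∀ y ∈ 𝐎[3, H], t * x * t⁻¹ = x⁻¹ → t * y * t⁻¹ = y⁻¹ →
      x ≠ 1 → y ∈ zpowers x) (ht : t ∈ T4 H V) : ∃ x, Tr H V t x := by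
  obtain ⟨x, xP, x1, xi⟩ := h.ex3 t ht
  obtain ⟨o, c, ct⟩ := h.inv3 t ht x xP x1 xi
  have x3 : x ^ 3 = 1 := by rw [← o, pow_orderOf_eq_one]
  have act : ∀ g ∈ 𝐎[3, H], g⁻¹ * (t * g * t⁻¹) ∈ zpowers x := fun g hg =>
    cy t ht x xP _ (mul_mem (inv_mem hg) (conj_mem_of_norm (le_norm_core H ht.1) hg)) xi (by
      calc _ = t * g⁻¹ * t⁻¹ * (t * t * g * (t * t)⁻¹) := by group
        _ = _ := by rw [ht.2.1]; group) x1
  refine ⟨x, ht, xP, mem_cent.2 fun g hg => ?_, o, xi, act, c, ct⟩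
  have h1 := cz.1 (cent_comm (zpowers_le.2 (cz.2 (rfl : x * x = _))) (act g hg))
  have h2 := cy t ht x xP _ (mul_mem (mul_mem hg xP) (inv_mem hg)) xi (by
    calc _ = g * (g⁻¹ * (t * g * t⁻¹) * (t * x * t⁻¹) * (g⁻¹ * (t * g * t⁻¹))⁻¹) * g⁻¹ := by group
      _ = g * (x * (g⁻¹ * (t * g * t⁻¹)) * (g⁻¹ * (t * g * t⁻¹))⁻¹)⁻¹ * g⁻¹ := by rw [xi, h1]; group
      _ = _ := by group) x1
  rcases zp3 x3 h2 with e | e | e
  · exact absurd (by simpa using e) x1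
  · exact mul_inv_eq_iff_eq_mul.1 e
  · obtain ⟨k, hk⟩ := pg_iff.1 (pg_core H) g hg
    obtain ⟨m, hm⟩ : Odd (3 ^ k) := Odd.pow (by decide)
    have h3 : Commute (g ^ 2) x := by
      change _ * _ = _
      calc _ = g * (g * x * g⁻¹) * g := by rw [pow_two]; group
        _ = (g * x * g⁻¹)⁻¹ * g ^ 2 := by rw [pow_two]; nth_rewrite 1 [e]; group
        _ = _ := by rw [e, inv_inv]
    have h4 := h3.pow_left (m + 1)
    rwa [← pow_mul, show 2 * (m + 1) = 2 * m + 1 + 1 from rfl, ← hm, pow_succ, hk, one_mul] at h4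

theorem odd (h : M3 𝒩 H V) (a : Tr H V s x) (b : Tr H V t y) {m : ℕ} (hm : Odd m) (h1 : Commute ((s * t) ^ m) x)
    (h2 : Commute ((s * t) ^ m) y) : Odd (orderOf (s * t)) := by
  have : Fact (Nat.Prime 3) := ⟨Nat.prime_three⟩
  have AP : zpowers x ⊔ zpowers y ≤ ΩZ[3, 𝐎[3, H]] ⊓ 𝐂[zpowers ((s * t) ^ m)] :=
    sup_le (zpowers_le.2 ⟨mem_oz.2 ⟨a.xP, a.cen, a.x3⟩, cz.2 h1⟩) (zpowers_le.2 ⟨mem_oz.2 ⟨b.xP, b.cen, b.x3⟩, cz.2 h2⟩)
  let Γ : Submonoid G :=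
    { carrier := {u | ∀ g ∈ 𝐎[3, H], g⁻¹ * (u * g * u⁻¹) ∈ zpowers x ⊔ zpowers y}
      one_mem' := fun g _ => by simp
      mul_mem' := fun {u v} hu hv g hg => by
        have h3 := hv g hg
        have := mul_mem (mul_mem (hu g hg) h3) (hu _ (mem_oz.1 (AP h3).1).1)
        convert this using 1
        group }
  have h3 : (s * t) ^ m ∈ Γ := pow_mem (mul_mem (show s ∈ Γ from fun g hg => mem_sup_left (a.act g hg))
    (show t ∈ Γ from fun g hg => mem_sup_right (b.act g hg))) m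
  have h4 := h.odd s a.mem t b.mem (m * 3) (mem_cent.2 fun g hg => by
    obtain ⟨h5, h6⟩ := AP (h3 g hg)
    rw [pow_mul]
    generalize (s * t) ^ m = u at h5 h6
    obtain ⟨c, hc⟩ : ∃ c, c = g⁻¹ * (u * g * u⁻¹) := ⟨_, rfl⟩
    rw [← hc] at h5 h6
    have e1 : u * g = g * c * u := by rw [hc]; group
    have e2 : u * c = c * u := cz.1 h6
    have e3 : u * (u * (u * g)) = g * c ^ 3 * u ^ 3 := by
      simp only [e1, ← mul_assoc, pow_three]
      simp only [mul_assoc, e2]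
      simp only [← mul_assoc, e2]
    rw [pow_three u, mul_assoc, mul_assoc, e3, (mem_oz.1 h5).2.2, mul_one, pow_three])
  exact Odd.of_dvd_nat ((hm.mul (by decide : Odd 3)).mul h4)
    (orderOf_dvd_of_pow_eq_one (by rw [pow_mul, pow_orderOf_eq_one]))

theorem nV (h : M3 𝒩 H V) : H ≤ 𝐍[V] := fun g hg => mem_norm_of_cj_le (cj_le_iff.2 (h.iV _ (h.inn g hg)))

theorem size (h : M3 𝒩 H V) {g a b : G} (hg : g ∈ H) (e : g * a * g⁻¹ = b ∨ g * a * g⁻¹ = b⁻¹)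
    (ha : Nat.card ↥⁅V, zpowers a⁆ = 16) : Nat.card ↥⁅V, zpowers b⁆ = 16 := by
  rw [← card_cj _ g, Mss.cj_comm, cj_of_norm (nV h hg), cjz] at ha
  rcases e with e | e <;> simpa [e] using ha

theorem mixed (h : M3 𝒩 H V) (a : Tr H V s x) (b : Tr H V t y) (hn : y ∉ zpowers x) (e : s * y * s⁻¹ = y * x) :
    Odd (orderOf (s * t)) := by
  have c : x * y = y * x := mem_cent.1 b.cen x a.xP
  have n1 := size h a.mem.1 (Or.inl (e.trans c.symm)) b.card
  have bi := b.inv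
  rcases zp3 b.x3 (b.act x a.xP) with f | f | f <;> rw [inv_mul_eq_iff_eq_mul] at f
  · refine (h.nine x a.xH y b.xH a.ord b.ord c hn a.card b.card n1 (size h b.mem.1 (Or.inl ?_) n1)).elim
    rw [← conj_mul, f, bi, mul_one]
  · have f1 : s * t * x * (s * t)⁻¹ = y := by
      rw [show s * t * x * (s * t)⁻¹ = s * (t * x * t⁻¹) * s⁻¹ by group, f, ← conj_mul, a.inv, e, ← c,
        inv_mul_cancel_left]
    have f2 : s * t * y * (s * t)⁻¹ = (y * x)⁻¹ := by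
      rw [show s * t * y * (s * t)⁻¹ = s * (t * y * t⁻¹) * s⁻¹ by group, bi, ← conj_inv, e]
    generalize hr : s * t = r at f1 f2
    have f3 : r * (y * x)⁻¹ * r⁻¹ = x := by
      rw [← conj_inv, ← conj_mul, f1, f2, mul_inv_rev, inv_inv, inv_mul_cancel_left]
    have k : ∀ z, r * (r * (r * z * r⁻¹) * r⁻¹) * r⁻¹ = z → Commute (r ^ 3) z := fun z hz => by
      change _ * _ = _
      rw [← mul_inv_eq_iff_eq_mul, pow_three]
      nth_rewrite 2 [← hz]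
      group
    rw [← hr] at k ⊢
    exact odd h a b (by decide : Odd 3) (k x (by rw [hr, f1, f2, f3])) (k y (by rw [hr, f2, f3, f1]))
  · exact (h.nine x a.xH y b.xH a.ord b.ord c hn a.card b.card n1 (size h b.mem.1 (Or.inl f) a.card)).elim

theorem indep (h : M3 𝒩 H V) (a : Tr H V s x) (b : Tr H V t y) (hn : y ∉ zpowers x) (e : y * s = s * y) :
    ⁅V, zpowers x⁆ ⊓ ⁅V, zpowers y⁆ = ⊥ := by
  have c : x * y = y * x := mem_cent.1 b.cen x a.xP
  have cm : ∀ {U : Subgroup G}, U ≤ V → IsMulCommutative U := fun l =>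
    ⟨⟨fun u v => Subtype.ext (h.e2.comm (l u.2) (l v.2))⟩⟩
  have cop : ∀ {U : Subgroup G} {z : G}, U ≤ V → orderOf z = 3 → (Nat.card (zpowers z)).Coprime (Nat.card U) :=
    fun l o => by
      obtain ⟨k, hk⟩ := (h.e2.mono l).pg.exists_card_eq
      rw [Nat.card_zpowers, o, hk]
      exact Nat.Coprime.pow_right k (by decide)
  have N : ∀ g ∈ H, g ∈ 𝐍[zpowers x] → g ∈ 𝐍[zpowers y] → g ∈ 𝐍[⁅V, zpowers x⁆ ⊓ ⁅V, zpowers y⁆] :=
    fun g h1 h2 h3 => zpowers_le.1 (norm_inf (norm_comm (zpowers_le.2 (nV h h1)) (zpowers_le.2 h2))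
      (norm_comm (zpowers_le.2 (nV h h1)) (zpowers_le.2 h3)))
  have nx := N x a.xH (nz' rfl) (nz' c.symm)
  have ny := N y b.xH (nz' c) (nz' rfl)
  have ns := N s a.mem.1 (nz a.inv) (nz' e)
  have xV := zpowers_le.2 (nV h a.xH)
  have lx : ⁅V, zpowers x⁆ ⊓ ⁅V, zpowers y⁆ ≤ ⁅V, zpowers x⁆ := inf_le_left
  have ly : ⁅V, zpowers x⁆ ⊓ ⁅V, zpowers y⁆ ≤ ⁅V, zpowers y⁆ := inf_le_right
  generalize ⁅V, zpowers x⁆ ⊓ ⁅V, zpowers y⁆ = U at *
  have lV : U ≤ V := lx.trans (Mss.comm_le_left xV)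
  have h0 : U ⊓ 𝐂[zpowers x] = ⊥ := eq_bot_iff.2 ((inf_le_inf_right _ lx).trans
    (CopAct.commutator_inf_centralizer_eq_bot (cm le_rfl) xV (cop le_rfl a.ord)).le)
  have h1 := (three h.e2 (nV h a.xH) (nV h b.xH) a.x3 b.x3 c ly nx ny).2
  have h2 : cj(s, U ⊓ 𝐂[zpowers (x * y)]) = U ⊓ 𝐂[zpowers (x * y⁻¹)] := by
    rw [Mss.cj_inf, cj_of_norm ns, Mss.cj_cent, cjz, ← conj_mul, a.inv, ← e, mul_inv_cancel_right, ← zpowers_inv,
      mul_inv_rev, inv_inv, (show Commute x y from c).inv_right.eq]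
  rw [← h2, card_cj, h0, card_bot, one_mul] at h1
  have h3 := card_dvd_of_le lx
  have h4 : Nat.card ↥(U ⊓ 𝐂[zpowers (x * y)]) ≠ 2 := fun e2 => by
    have := cent_comm (JC.le_cent_of_card_two e2 (norm_inf (zpowers_le.2 nx)
      (norm_cent (zpowers_le.2 (nz' (by rw [mul_assoc, ← c]))))))
    rw [eq_bot_iff.2 ((le_inf inf_le_left this).trans h0.le), card_bot] at e2
    omega
  have h5 : Nat.card ↥(U ⊓ 𝐂[zpowers (x * y)]) ≠ 4 := fun e4 => by
    have xy : x * y ∈ 𝐎[3, H] := mul_mem a.xP b.xP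
    have o : orderOf (x * y) = 3 := by
      have : Fact (Nat.Prime 3) := ⟨Nat.prime_three⟩
      exact orderOf_eq_prime (by rw [Commute.mul_pow c, a.x3, b.x3, one_mul]) fun e =>
        hn (by rw [eq_inv_of_mul_eq_one_right e]; exact inv_mem (mem_zpowers x))
    have n := zpowers_le.2 (mul_mem nx ny)
    have h6 := CopAct.card_eq_card_commutator_mul_card_centralizer (cm lV) n (cop lV o)
    have h7 : ⁅V, zpowers (x * y)⁆ ≤ U :=
      (commutator_mono le_rfl (zpowers_le.2 (mul_mem (mem_sup_left (mem_zpowers x)) (mem_sup_right (mem_zpowers y))))).trans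
        (comm_sup_le (zpowers_le.2 nx) (zpowers_le.2 ny)
          (PG.eq_of_le_of_card_le lx (by rw [a.card, h1, e4])).ge
          (PG.eq_of_le_of_card_le ly (by rw [b.card, h1, e4])).ge)
    refine h.no4 _ xy o ?_
    rw [le_antisymm ((CopAct.commutator_commutator_eq (zpowers_le.2 (nV h (pCoreOf_le H xy)))
      (cop le_rfl o)).ge.trans (commutator_mono h7 le_rfl)) (commutator_mono lV le_rfl)]
    rw [e4] at h1 h6
    omega
  rw [a.card, h1] at h3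
  rw [← card_eq_one, h1]
  generalize Nat.card ↥(U ⊓ 𝐂[zpowers (x * y)]) = n at *
  have : n ≤ 4 := by nlinarith [Nat.le_of_dvd (by norm_num) h3]
  interval_cases n <;> omega

end MF

open MF in
theorem M3.b2 {𝒩 : Subgroup (MulAut G)} {H V : Subgroup G} (h : M3 𝒩 H V)
    (cy : ∀ t ∈ T4 H V, ∀ x ∈ 𝐎[3, H], ∀ y ∈ 𝐎[3, H], t * x * t⁻¹ = x⁻¹ → t * y * t⁻¹ = y⁻¹ →
      x ≠ 1 → y ∈ zpowers x) {s t : G} (hs : s ∈ T4 H V) (ht : t ∈ T4 H V) :
    s * t = t * s ∨ Odd (orderOf (s * t)) := by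
  obtain ⟨x, a⟩ := exists_tr h cy hs
  obtain ⟨y, b⟩ := exists_tr h cy ht
  have k : ∀ {x : G}, Tr H V s x → Tr H V t x → Odd (orderOf (s * t)) := fun {x} a b => by
    have : Commute ((s * t) ^ 1) x := by
      change _ * _ = _
      rw [pow_one, ← mul_inv_eq_iff_eq_mul, show s * t * x * (s * t)⁻¹ = s * (t * x * t⁻¹) * s⁻¹ by group, b.inv,
        ← conj_inv, a.inv, inv_inv]
    exact MF.odd h a b odd_one this this
  by_cases hn : y ∈ zpowers x
  · rcases zp3 a.x3 hn with e | e | e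
    · exact absurd b.ord (by simp [e])
    exacts [Or.inr (k a (e ▸ b)), Or.inr (k a.neg (e ▸ b))]
  have hn' : x ∉ zpowers y := fun hx => by
    rcases zp3 b.x3 hx with e | e | e
    · exact absurd a.ord (by simp [e])
    · exact hn (e ▸ mem_zpowers _)
    · exact hn (by simp [e])
  have sw : orderOf (t * s) = orderOf (s * t) := by
    rw [← orderOf_inv, mul_inv_rev, inv_eq_of_mul_eq_one_right hs.2.1, inv_eq_of_mul_eq_one_right ht.2.1]
  rcases zp3 a.x3 (a.act y b.xP) with e | e | e <;> rw [inv_mul_eq_iff_eq_mul] at e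
  swap
  · exact Or.inr (mixed h a b hn e)
  swap
  · exact Or.inr (mixed h a.neg b (by simpa using hn) e)
  rcases zp3 b.x3 (b.act x a.xP) with f | f | f <;> rw [inv_mul_eq_iff_eq_mul] at f
  swap
  · exact Or.inr (sw ▸ mixed h b a hn' f)
  swap
  · exact Or.inr (sw ▸ mixed h b.neg a (by simpa using hn') f)
  rw [mul_one, mul_inv_eq_iff_eq_mul] at e
  have h0 := indep h a b hn e.symm
  have c : x * y = y * x := mem_cent.1 b.cen x a.xP
  have xV := zpowers_le.2 (nV h a.xH)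
  have yV := zpowers_le.2 (nV h b.xH)
  have h1 := comm_of_indep h.e2 (nV h hs.1) (nV h ht.1) (nV h a.xH) (nV h b.xH) (by rw [a.ord]; decide)
    (by rw [b.ord]; decide) (nz a.inv) (nz b.inv) a.ct b.ct
    (comm_eq_bot_iff.1 (eq_bot_iff.2 ((le_inf (commutator_mono (Mss.comm_le_left yV) le_rfl)
      (Mss.comm_le_left (norm_comm xV (zpowers_le.2 (nz' c.symm))))).trans h0.le)))
    (comm_eq_bot_iff.1 (eq_bot_iff.2 ((le_inf (Mss.comm_le_left (norm_comm yV (zpowers_le.2 (nz' c))))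
      (commutator_mono (Mss.comm_le_left xV) le_rfl)).trans h0.le)))
  exact Or.inl (commutatorElement_eq_one_iff_mul_comm.1 (mem_bot.1 (h.ff.le (mem_inf.2 ⟨mul_mem (mul_mem
    (mul_mem hs.1 ht.1) (inv_mem hs.1)) (inv_mem ht.1), h1⟩))))

end Cfsg.Agent.NC
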