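import Mathlib
import Cfsg.Agent.NF.TA1
import Cfsg.Agent.NC.TA2
import Cfsg.Agent.Loc.CardProd
import Cfsg.Agent.Loc.JCBasic

/-! `NF/TA3`: the normality theorem in the minimal situation. -/

set_option autoImplicit false
set_option linter.unusedSectionVars false

namespace Cfsg.Agent.NC

open Cfsg Cfsg.Agent.GT Cfsg.Agent.Loc Cfsg.Agent.Loc.Mss Cfsg.Agent.Loc.PU Cfsg.Agent.Loc.Blk
  Subgroup Cfsg.Agent.NF
open scoped commutatorElement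

variable {G : Type*} [Group G] [Finite G]

theorem ta3_e2_sup {A B : Subgroup G} (hA : E2 A) (hB : E2 B) (h : A ≤ 𝐂[B]) : E2 (A ⊔ B) := by
  intro x hx
  obtain ⟨a, ha, b, hb, rfl⟩ := (mem_sup_norm' (norm_of_cent h)).1 hx
  have := mem_cent.1 (h ha) b hb
  calc a * b * (a * b) = a * (b * a) * b := by group
    _ = (a * a) * (b * b) := by rw [this]; group
    _ = 1 := by rw [hA a ha, hB b hb, mul_one]

theorem ta3_card_le {B T E : Subgroup G} (hE : E ∈ abFam 2 T) (hB : E2 B) (l : B ≤ T) :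
    Nat.card B ≤ Nat.card E :=
  hE.2.2.2 B l (th_comm_iff.2 fun _ hx _ hy => hB.comm hx hy) fun b hb => by rw [pow_two, hB b hb]

theorem ta3_iv_core {𝒟 : Subgroup (MulAut G)} {H : Subgroup G} (h : IV 𝒟 H) : IV 𝒟 𝐎[2, H] :=
  iv_of_map fun σ hσ => (map_pCoreOf_le H _).trans (by rw [h.map_eq hσ])

/-- large elementary abelian subgroups centralize `Y` -/
theorem ta3_cent {Y T E A : Subgroup G} (f1 : F1 Y T) (e2 : E2 Y) (le : Y ≤ T)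
    (hE : E ∈ abFam 2 T) (hA : A ≤ T) (a2 : E2 A) (hc : Nat.card E ≤ 2 * Nat.card A) :
    A ≤ 𝐂[Y] := by
  refine f1 A hA (fun a ha => by rw [a2 a ha]; exact one_mem _) ?_
  have h1 := ta3_card_le hE (ta3_e2_sup (a2.mono inf_le_left) e2 (inf_le_right (a := A)))
    (sup_le (inf_le_left.trans hA) le)
  have h2 := card_mul_card_le_card_sup_mul_card_inf (A ⊓ 𝐂[Y]) Y
  have h3 : Nat.card ↥(A ⊓ 𝐂[Y] ⊓ Y) ≤ Nat.card ↥(Y ⊓ 𝐂[A]) :=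
    card_le_of_le (le_inf inf_le_right ((inf_le_left.trans inf_le_left).trans a2.le_cent))
  calc _ = Nat.card ↥(A ⊓ 𝐂[Y]) * Nat.card Y := mul_comm _ _
    _ ≤ _ := h2
    _ ≤ (2 * Nat.card A) * Nat.card ↥(Y ⊓ 𝐂[A]) := Nat.mul_le_mul (h1.trans hc) h3
    _ = _ := mul_assoc _ _ _

/-- an involution outside `𝐍[Y]` centralizing a hyperplane of `Y` -/
theorem TA.exists_l {𝒟 : Subgroup (MulAut G)} {H T Y : Subgroup G} (h : TA 𝒟 H T Y)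
    (hn : ¬ H ≤ 𝐍[Y]) : ∃ l ∈ H, l ∉ 𝐍[Y] ∧ Nat.card Y ≤ 2 * Nat.card ↥(𝐂[zpowers l] ⊓ Y) := by
  have hYR := tA1 h.sol h.chp h.syl h.le h.nm h.e2 h.f1
  obtain ⟨r1, r2, -⟩ := h.red hn
  have hRT : 𝐎[2, H] ≤ T := h.syl.core_le
  have hTH := h.syl.le
  have hHR : H ≤ 𝐍[𝐎[2, H]] := le_norm_core H
  have hJ : thJ 2 T ≤ 𝐂[Y] := h.f1.thJ_le h.e2 h.le le_rfl
  set R := 𝐎[2, H] with hR
  set F := 𝐑[2, H] ⊔ R with hF
  have hFH : F ≤ H := sup_le (res_le H) (hRT.trans hTH)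
  have hHF : H ≤ 𝐍[F] := norm_sup (le_norm_res H) hHR
  obtain ⟨E, hE, hEM⟩ : ∃ E ∈ abFam 2 T, ¬ ⁅F, E⁆ ≤ 𝐍[Y] := by
    by_contra h0
    push Not at h0
    refine hn (h.syl.le_of_res_le (r2.trans (sup_le ?_ (hRT.trans h.nm))) h.nm)
    have hK : (⨆ E ∈ abFam 2 T, ⁅F, E⁆) ≤ F := iSup₂_le fun E hE =>
      comm_le_left ((abFam_le hE).trans (hTH.trans hHF))
    refine (le_cmod.1 (thJ_le_iff.2 fun E hE => le_cmod.2 ⟨norm_of_comm_le hK ?_, ?_⟩)).2.trans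
      (iSup₂_le h0) <;> exact le_iSup₂_of_le (f := fun E (_ : E ∈ abFam 2 T) => ⁅F, E⁆) E hE le_rfl
  have hET := abFam_le hE
  have eE : E2 E := fun a ha => by rw [← pow_two, abFam_pow hE a ha]
  obtain ⟨E₀, b1, e, he, x, hx, b2, b3, -, b5, b6, b7⟩ := exists_dih (F := F) (R := R) (E := E)
    (M := 𝐍[Y]) le_sup_right ((sup_le hFH (hET.trans hTH)).trans hHR) (hET.trans (hTH.trans hHF))
    r1 eE (hRT.trans h.nm) hEM
  have hxH := hFH hx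
  have cE : Nat.card E = 2 * Nat.card E₀ := by rw [card_eq_relIndex_mul_card b1, b3]
  have hS : x ∈ 𝐍[E₀ ⊔ R] := mem_norm_of_cj_le (by
    rw [cj_sup, cj_of_norm (hHR hxH)]
    refine sup_le (cj_le_iff.2 fun a ha => ?_) le_sup_right
    rw [show x * a * x⁻¹ = ⁅a, x⁆⁻¹ * a by simp only [commutatorElement_def]; group]
    exact mul_mem (mem_sup_right (inv_mem (b7 a ha))) (mem_sup_left ha))
  have hST : E₀ ⊔ R ≤ T := sup_le (b1.trans hET) hRT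
  set J := sSup {A : Subgroup G | A ≤ E₀ ⊔ R ∧ E2 A ∧ Nat.card E ≤ 2 * Nat.card A} with hJ'
  have j1 : J ≤ 𝐂[Y] := sSup_le fun A hA =>
    ta3_cent h.f1 h.e2 h.le hE (hA.1.trans hST) hA.2.1 hA.2.2
  have j2 : E₀ ≤ J := le_sSup ⟨le_sup_left, eE.mono b1, cE.le⟩
  have j3 : x ∈ 𝐍[J] := mem_norm_of_cj_le (cj_le_iff_le_inv.2 (sSup_le fun A hA =>
    cj_le_iff_le_inv.1 (le_sSup ⟨cj_le_of_norm hA.1 hS, fun a ha => by
      have := hA.2.1 _ (mem_cj.1 ha)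
      have h2 : a * a = x * (x⁻¹ * a * x * (x⁻¹ * a * x)) * x⁻¹ := by group
      rw [h2, this]; group, by rw [card_cj]; exact hA.2.2⟩)))
  have j4 : J ≤ T := (sSup_le fun A hA => hA.1).trans hST
  have hYE : Y ≤ E := fun y hy => mem_of_abFam_of_centralizer hE (h.le hy)
    (cent_comm ((le_thJ hE).trans hJ) hy) (by rw [pow_two, h.e2 y hy])
  have hYW : Y ≤ ΩZ[2, J] := fun y hy => mem_oz.2 ⟨j2 (b2 ⟨hYE hy, hYR hy⟩), cent_comm j1 hy,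
    by rw [pow_two, h.e2 y hy]⟩
  have hxW : x ∈ 𝐍[ΩZ[2, J]] := norm_oz (zpowers_le.2 j3) (mem_zpowers x)
  set W := ΩZ[2, J] with hW
  have w1 : Nat.card W ≤ 2 * Nat.card ↥(𝐂[zpowers e] ⊓ W) := by
    have h1 := ta3_card_le hE (ta3_e2_sup (eE.mono b1) (e2_oz J) (j2.trans (le_cent_oz J)))
      (sup_le (b1.trans hET) ((oz_le J).trans j4))
    have h2 := card_mul_card_le_card_sup_mul_card_inf E₀ W
    have h3 : Nat.card ↥(E₀ ⊓ W) ≤ Nat.card ↥(𝐂[zpowers e] ⊓ W) := card_le_of_le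
      (inf_le_inf_right _ (b1.trans (eE.le_cent.trans (cent_anti (zpowers_le.2 he)))))
    refine Nat.le_of_mul_le_mul_left ?_ (Nat.card_pos (α := E₀))
    calc _ ≤ _ := h2
      _ ≤ (2 * Nat.card E₀) * Nat.card ↥(𝐂[zpowers e] ⊓ W) := Nat.mul_le_mul (cE ▸ h1) h3
      _ = _ := by ring
  have w2 : Nat.card W ≤ 2 * Nat.card ↥(𝐂[zpowers (x * e * x⁻¹)] ⊓ W) := by
    rw [← card_cj (𝐂[zpowers e] ⊓ W) x, cj_inf, cj_cent, cj_of_norm hxW, MonoidHom.map_zpowers] at w1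
    exact w1
  refine ⟨x * e * x⁻¹, mul_mem (mul_mem hxH (hTH (hET he))) (inv_mem hxH), fun hl => b5 ?_, ?_⟩
  · have h1 : x ^ 2 ∈ 𝐍[Y] := by
      have := mul_mem (inv_mem (mul_mem (h.nm (hET he)) hl)) (h.nm (hRT b6))
      have e1 : e⁻¹ = e := inv_eq_of_mul_eq_one_right (eE e he)
      rwa [show (e * (x * e * x⁻¹))⁻¹ * (e * x * e⁻¹ * x) = x * (e⁻¹ * e⁻¹) * x by group, e1,
        eE e he, mul_one, ← pow_two] at this
    have h2 : x ^ R.relIndex F ∈ 𝐍[Y] := by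
      have : (R.subgroupOf F).Normal :=
        (normal_subgroupOf_iff_le_normalizer le_sup_right).2 (hFH.trans hHR)
      exact h.nm (hRT (pow_index_mem (R.subgroupOf F) ⟨x, hx⟩))
    obtain ⟨k, hk⟩ := Nat.coprime_two_right.1 r1
    rw [hk, pow_succ, pow_mul] at h2
    exact (mul_mem_cancel_left (pow_mem h1 k)).1 h2
  · have h1 : (𝐂[zpowers (x * e * x⁻¹)]).relIndex W ≤ 2 := by
      rw [card_eq_relIndex_mul_card_inf 𝐂[zpowers (x * e * x⁻¹)] W] at w2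
      exact Nat.le_of_mul_le_mul_right w2 Nat.card_pos
    rw [card_eq_relIndex_mul_card_inf 𝐂[zpowers (x * e * x⁻¹)] Y]
    exact Nat.mul_le_mul_right _ ((relIndex_le_of_le_right hYW FiniteIndex.index_ne_zero).trans h1)

theorem TA.norm {𝒟 : Subgroup (MulAut G)} {H T Y : Subgroup G} (h : TA 𝒟 H T Y) : H ≤ 𝐍[Y] := by
  by_contra hn
  have hYR := tA1 h.sol h.chp h.syl h.le h.nm h.e2 h.f1
  obtain ⟨-, r2, r3⟩ := h.red hn
  obtain ⟨l, hl, l1, l2⟩ := h.exists_l hn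
  have hRT : 𝐎[2, H] ≤ T := h.syl.core_le
  have hTH := h.syl.le
  have hHR : H ≤ 𝐍[𝐎[2, H]] := le_norm_core H
  have hJ : thJ 2 T ≤ 𝐂[Y] := h.f1.thJ_le h.e2 h.le le_rfl
  have iR := ta3_iv_core h.iH
  have pR : IsPGroup 2 𝐎[2, H] := pg_core H
  set R := 𝐎[2, H] with hR
  set X := 𝐑[2, H] with hX
  have hXH : X ≤ H := res_le H
  have hRY : R ≤ 𝐍[Y] := hRT.trans h.nm
  have key : ∀ K : Subgroup G, T ≤ K → K ≤ H → IV 𝒟 K → l ∈ K → H ≤ K := fun K a b c d =>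
    (h.min K a b c).resolve_left fun e => l1 (e d)
  have keyN : ∀ K : Subgroup G, T ≤ 𝐍[K] → IV 𝒟 K → l ∈ 𝐍[K] → H ≤ 𝐍[K] := fun K a c d =>
    (key _ (le_inf hTH a) inf_le_left (h.iH.inf c.norm) ⟨hl, d⟩).trans inf_le_right
  set D := 𝐂[zpowers l] ⊓ Y with hD
  have d1 : D ≤ Y ⊓ cj(l, Y) := le_inf inf_le_right fun y hy => mem_cj.2 (by
    rw [mul_assoc, ← mem_cent.1 hy.1 l (mem_zpowers l), inv_mul_cancel_left]; exact hy.2)
  have d2 : (Y ⊓ cj(l, Y)).relIndex Y = 2 ∧ D = Y ⊓ cj(l, Y) := by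
    have a1 := card_eq_relIndex_mul_card (inf_le_left : Y ⊓ cj(l, Y) ≤ Y)
    have a2 : (Y ⊓ cj(l, Y)).relIndex Y ≠ 1 := fun e =>
      l1 (cj_eq_iff.1 (cj_eq_of_ge ((relIndex_eq_one.1 e).trans inf_le_right)))
    have a3 : (Y ⊓ cj(l, Y)).relIndex Y ≠ 0 := FiniteIndex.index_ne_zero
    have a4 := card_le_of_le d1
    have a5 : 0 < Nat.card ↥(Y ⊓ cj(l, Y)) := Nat.card_pos
    have a6 : (Y ⊓ cj(l, Y)).relIndex Y ≤ 2 :=
      Nat.le_of_mul_le_mul_right (a1 ▸ l2.trans (Nat.mul_le_mul_left 2 a4)) a5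
    have a7 : (Y ⊓ cj(l, Y)).relIndex Y = 2 := by omega
    rw [a7] at a1
    exact ⟨a7, eq_of_le_of_card_ge d1 (by omega)⟩
  have hRD : R ≤ 𝐍[D] := by
    rw [d2.2]
    refine norm_inf hRY ?_
    rw [← cj_norm, ← cj_of_norm (hHR hl)]
    exact cj_mono l hRY
  have d3 : ⁅Y, R⁆ ≤ D := JC.comm_le_of_relIndex_two inf_le_right
    (norm_of_cent (h.e2.le_cent.trans (cent_anti inf_le_right))) (d2.2 ▸ d2.1) hRY hRD
  have lD : l ∈ 𝐂[D] := cent_comm (inf_le_left : D ≤ _) (mem_zpowers l)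
  have i0 : IV 𝒟 ⁅Y, R⁆ := h.iY.comm iR
  have t0 : T ≤ 𝐍[⁅Y, R⁆] := norm_comm h.nm (hTH.trans hHR)
  have n0 : H ≤ 𝐍[⁅Y, R⁆] := keyN _ t0 i0 (cent_le_norm _ (cent_anti d3 lD))
  have x0 : X ≤ 𝐂[⁅Y, R⁆] := (res_le_of_le_sup (norm_inf (norm_of_le hTH) (norm_cent t0)) h.syl.pg
    (key (H ⊓ 𝐂[⁅Y, R⁆] ⊔ T) le_sup_right (sup_le inf_le_left hTH) ((h.iH.inf i0.cent).sup h.iT)
      (mem_sup_left ⟨hl, cent_anti d3 lD⟩))).trans inf_le_right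
  have c1 : R ⊓ 𝐂[D] ≤ 𝐂[Y] := h.f1 _ (inf_le_left.trans hRT) (fun r hr => mem_cent.2 fun y hy => by
      have a1 : ⁅y, r⁆ ∈ D := d3 (commutator_mem_commutator hy hr.1)
      have a2 := mem_cent.1 hr.2 _ a1
      have a3 := h.e2 _ a1.2
      calc y * (r * r) = ⁅y, r⁆ * r * (⁅y, r⁆ * r) * y := by
            simp only [commutatorElement_def]; group
        _ = ⁅y, r⁆ * ⁅y, r⁆ * (r * r * y) := by
            rw [show ⁅y, r⁆ * r * (⁅y, r⁆ * r) = ⁅y, r⁆ * (r * ⁅y, r⁆) * r by group, ← a2]; group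
        _ = _ := by rw [a3, one_mul]) (by
      have a1 : Nat.card D ≤ Nat.card ↥(Y ⊓ 𝐂[R ⊓ 𝐂[D]]) :=
        card_le_of_le (le_inf inf_le_right (cent_comm inf_le_right))
      calc _ ≤ (2 * Nat.card ↥(Y ⊓ 𝐂[R ⊓ 𝐂[D]])) * Nat.card ↥(R ⊓ 𝐂[D]) :=
            Nat.mul_le_mul (l2.trans (Nat.mul_le_mul_left 2 a1)) (card_le_of_le inf_le_left)
        _ = _ := by ring)
  have c2 : R ⊓ 𝐂[Y] = R ⊓ 𝐂[D] :=
    le_antisymm (inf_le_inf_left _ (cent_anti inf_le_right)) (le_inf inf_le_left c1)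
  have n1 : H ≤ 𝐍[R ⊓ 𝐂[Y]] := keyN _ (norm_inf (hTH.trans hHR) (norm_cent h.nm))
    (iR.inf h.iY.cent) (by
      rw [c2]
      exact norm_inf (zpowers_le.2 (hHR hl)) (norm_cent (norm_of_cent (zpowers_le.2 lD)))
        (mem_zpowers l))
  have v1 : ncl H Y ≤ 𝐂[R ⊓ 𝐂[Y]] := ncl_le_cent (cent_comm inf_le_right) n1
  have v2 : ncl H Y ≤ R := ncl_le hYR hHR
  have hJH : thJ 2 T ≤ H := (thJ_le 2 T).trans hTH
  have n2 : H ≤ 𝐍[cmod R (R ⊓ 𝐂[Y])] := norm_cmod hHR n1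
  have x1 : ⁅R, X⁆ ≤ R ⊓ 𝐂[Y] := by
    have a1 : thJ 2 T ≤ cmod R (R ⊓ 𝐂[Y]) := le_cmod.2 ⟨hJH.trans n1, le_inf
      (comm_le_left (hJH.trans hHR))
      ((commutator_mono le_rfl hJ).trans (comm_le_right (norm_cent hRY)))⟩
    have a2 : ⁅X ⊔ R, thJ 2 T⁆ ≤ cmod R (R ⊓ 𝐂[Y]) := (commutator_mono le_rfl a1).trans
      (comm_le_right ((sup_le hXH (hRT.trans hTH)).trans n2))
    have a3 := res_le_of_le_sup ((hRT.trans hTH).trans n2) pR (r2.trans (sup_le_sup_right a2 _))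
    rw [hX, res_res] at a3
    exact (le_cmod.1 a3).2
  have v3 : ⁅R, ncl H Y⁆ ≤ ⁅Y, R⁆ := (le_cmod.1 (ncl_le (le_cmod.2
    ⟨(h.le.trans hTH).trans n0, (commutator_comm _ _).le⟩) (norm_cmod hHR n0))).2
  have v4 : ⁅ncl H Y, X⁆ ≤ 𝐂[R] := comm_eq_bot_iff.1 (le_bot_iff.1 (three_subgroups
    (norm_normal _ _) (norm_normal _ _) (norm_normal _ _)
    (comm_eq_bot_iff'.2 (v1.trans (cent_anti ((commutator_comm _ _).le.trans x1)))).le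
    (comm_eq_bot_iff'.2 (x0.trans (cent_anti v3))).le))
  have v5 : ⁅ncl H Y, X⁆ ≤ R := (comm_le_left (hXH.trans (le_norm_ncl H Y))).trans v2
  refine hn (h.syl.le_of_res_le (norm_of_cent (res_le_iff.2 fun g hg ho => ?_)) h.nm)
  refine mem_of_pow_mem (k := 1) ho (mem_cent.2 fun y hy => ?_)
  have hgX : g ∈ X := mem_res hg ho
  have a1 : ⁅y, g⁆ ∈ ⁅ncl H Y, X⁆ := commutator_mem_commutator (le_ncl H Y hy) hgX
  have a2 := mem_cent.1 (v4 a1) y (hYR hy)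
  have a3 : ⁅y, g⁆ * ⁅y, g⁆ = 1 := by
    have y1 : y⁻¹ = y := inv_eq_of_mul_eq_one_right (h.e2 y hy)
    calc _ = ⁅y, g⁆ * y * (y⁻¹ * ⁅y, g⁆) := by group
      _ = y * ⁅y, g⁆ * (y * ⁅y, g⁆) := by rw [y1, ← a2]
      _ = (y * y) * g * y⁻¹ * g⁻¹ * (y * y) * g * y⁻¹ * g⁻¹ := by
          simp only [commutatorElement_def]; group
      _ = g * (y⁻¹ * y⁻¹) * g⁻¹ := by rw [h.e2 y hy]; group
      _ = 1 := by rw [y1, h.e2 y hy]; group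
  have a4 := mem_cent.1 (r3 hgX) _ (mem_oz.2 ⟨v5 a1, v4 a1, by rw [pow_two, a3]⟩)
  rw [pow_one, pow_two]
  calc y * (g * g) = ⁅y, g⁆ * g * (⁅y, g⁆ * g) * y := by
        simp only [commutatorElement_def]; group
    _ = ⁅y, g⁆ * ⁅y, g⁆ * (g * g * y) := by
        rw [show ⁅y, g⁆ * g * (⁅y, g⁆ * g) = ⁅y, g⁆ * (g * ⁅y, g⁆) * g by group, ← a4]; group
    _ = _ := by rw [a3, one_mul]

end Cfsg.Agent.NC
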